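import Mathlib

/-!
# The smallest index of a proper subgroup of a group like `U₃(5)`: the abstract argument

`G` is a simple group of order `126000` acting transitively on `126` points; `Q` is a subgroup of order `125` fixing
a point `ω₀` whose other elements fix no other point; `s` has order `7` and the normaliser of `⟨s⟩` has order `21`.
Then every proper subgroup of `G` has index at least `50`.

A subgroup `H` of index `n < 50`: if `25 ∤ n`, a subgroup of order `25` of `H` is conjugate into `Q`, the orbit of the
fixed point has `1 + 25 k` points, a divisor of the order, so it has `1` or `126` points, `H` has at most `1000` elements or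
`126` divides its order, and `n` is one of `2, 4, 5, 8, 10, 20, 40`; `n ≤ 10` is excluded as `126000 ∤ 10!`; for `n = 20, 25, 40`
the number of Sylow `7`-subgroups of `H` is `|H| / 7` or `|H| / 21`, never `1` modulo `7`.
-/

set_option autoImplicit false

namespace Cfsg.Agent.Lib.Lead.U35Min

open MulAction

section general

variable {G : Type*} [Group G] [Finite G]

/-- a `p`-subgroup is conjugate into a subgroup of order `p ^ k` when `p ^ (k + 1)` does not divide the order -/
theorem exists_conj_into (p k : ℕ) [hp : Fact p.Prime] (hpk : ¬ p ^ (k + 1) ∣ Nat.card G) (A B : Subgroup G)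
    (hA : IsPGroup p A) (hB : Nat.card B = p ^ k) : ∃ g : G, ∀ a ∈ A, g * a * g⁻¹ ∈ B := by
  have hPB : IsPGroup p B := IsPGroup.of_card hB
  obtain ⟨QA, hQA⟩ := hA.exists_le_sylow
  obtain ⟨QB, hQB⟩ := hPB.exists_le_sylow
  have hcard : Nat.card QB ≤ p ^ k := by
    rw [Sylow.card_eq_multiplicity]
    have hf : (Nat.card G).factorization p ≤ k := by
      by_contra hc
      push Not at hc
      exact hpk (dvd_trans (pow_dvd_pow p hc) (Nat.ordProj_dvd _ _))
    exact Nat.pow_le_pow_right hp.out.pos hf
  have eB : B = QB := Subgroup.eq_of_le_of_card_ge hQB (by rw [hB]; exact hcard)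
  obtain ⟨g, hg⟩ := MulAction.exists_smul_eq G QA QB
  refine ⟨g, fun a ha => ?_⟩
  rw [eB, ← hg, Sylow.coe_subgroup_smul, Subgroup.mem_smul_pointwise_iff_exists]
  exact ⟨a, hQA ha, by rw [MulAut.smul_def, MulAut.conj_apply]⟩

/-- the conjugate of a subgroup -/
def conjSub (g : G) (H : Subgroup G) : Subgroup G := H.map (MulAut.conj g).toMonoidHom

omit [Finite G] in
theorem mem_conjSub {g : G} {H : Subgroup G} {x : G} (hx : x ∈ H) : g * x * g⁻¹ ∈ conjSub g H :=
  ⟨x, hx, by simp⟩

omit [Finite G] in
theorem card_conjSub (g : G) (H : Subgroup G) : Nat.card (conjSub g H) = Nat.card H :=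
  Subgroup.card_map_of_injective (MulAut.conj g).injective

omit [Finite G] in
theorem conjSub_mono (g : G) {H K : Subgroup G} (h : H ≤ K) : conjSub g H ≤ conjSub g K :=
  Subgroup.map_mono h

/-- a simple group embeds in the symmetric group on the cosets of a proper subgroup -/
theorem card_dvd_factorial (hs : IsSimpleGroup G) (H : Subgroup G) (hH : H ≠ ⊤) :
    Nat.card G ∣ (H.index).factorial := by
  have hinj : Function.Injective (MulAction.toPermHom G (G ⧸ H)) := by
    rw [← MonoidHom.ker_eq_bot_iff]
    rcases (inferInstance : (MulAction.toPermHom G (G ⧸ H)).ker.Normal).eq_bot_or_eq_top with h | h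
    · exact h
    · exfalso
      apply hH
      rw [eq_top_iff]
      intro g _
      have hg : g ∈ (MulAction.toPermHom G (G ⧸ H)).ker := by rw [h]; trivial
      rw [MonoidHom.mem_ker] at hg
      have h2 : g • (QuotientGroup.mk 1 : G ⧸ H) = QuotientGroup.mk 1 := by
        have := congrArg (fun σ : Equiv.Perm (G ⧸ H) => σ (QuotientGroup.mk 1)) hg
        exact this
      rw [MulAction.Quotient.smul_mk, QuotientGroup.eq] at h2
      simpa using h2
  have h1 := Subgroup.card_dvd_of_injective _ hinj
  rw [Nat.card_perm, ← Subgroup.index_eq_card] at h1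
  exact h1

/-- a group acting with trivial stabilisers: its order divides the number of points -/
theorem card_dvd_of_free {R X : Type*} [Group R] [Finite R] [MulAction R X] [Finite X]
    (h : ∀ x : X, stabilizer R x = ⊥) : Nat.card R ∣ Nat.card X := by
  classical
  have : Fintype (orbitRel.Quotient R X) := Fintype.ofFinite _
  rw [Nat.card_congr (MulAction.selfEquivSigmaOrbits R X), Nat.card_sigma]
  apply Finset.dvd_sum
  intro ω _
  have h1 := MulAction.index_stabilizer R (Quotient.out ω)
  rw [h, Subgroup.index_bot] at h1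
  rw [Nat.card_coe_set_eq, ← h1]

end general

section action

variable {G : Type*} [Group G] [Finite G] {Ω : Type*} [Fintype Ω] [MulAction G Ω]

/-- the orbit of a point fixed by a subgroup `R` of `H` whose other elements fix no other point has `1` modulo `|R|`
points -/
theorem orbit_ncard_mod (H R : Subgroup G) (hRH : R ≤ H) (ω : Ω) (hfix : ∀ r ∈ R, r • ω = ω)
    (hfree : ∀ r ∈ R, r ≠ 1 → ∀ x : Ω, r • x = x → x = ω) :
    ∃ k : ℕ, (orbit H ω).ncard = 1 + Nat.card R * k := by
  classical
  -- the points of the orbit other than `ω`, with the action of `R`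
  let X : SubMulAction R Ω :=
    { carrier := {x | x ∈ orbit H ω ∧ x ≠ ω}
      smul_mem' := by
        rintro r x ⟨⟨h, rfl⟩, hne⟩
        refine ⟨⟨⟨r.1, hRH r.2⟩ * h, ?_⟩, ?_⟩
        · show (r.1 * h.1) • ω = r.1 • (h.1 • ω)
          rw [mul_smul]
        · intro he
          apply hne
          have h1 : r.1⁻¹ • (r.1 • (h.1 • ω)) = r.1⁻¹ • ω := congrArg (fun z => r.1⁻¹ • z) he
          rw [inv_smul_smul] at h1
          show h.1 • ω = ω
          rw [h1, inv_smul_eq_iff, hfix r.1 r.2] }
  have hstab : ∀ x : X, stabilizer R x = ⊥ := by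
    intro x
    rw [eq_bot_iff]
    intro r hr
    rw [Subgroup.mem_bot]
    by_contra hne
    have h1 : r • x = x := hr
    have h2 : r.1 • (x : Ω) = (x : Ω) := congrArg Subtype.val h1
    have h3 := hfree r.1 r.2 (fun h => hne (Subtype.ext h)) _ h2
    exact x.2.2 h3
  obtain ⟨k, hk⟩ := card_dvd_of_free hstab
  refine ⟨k, ?_⟩
  have hX : Nat.card X = ({x | x ∈ orbit H ω ∧ x ≠ ω} : Set Ω).ncard := rfl
  have hsplit : orbit H ω = insert ω {x | x ∈ orbit H ω ∧ x ≠ ω} := by
    ext x
    constructor
    · intro hx
      by_cases h : x = ω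
      · exact Or.inl h
      · exact Or.inr ⟨hx, h⟩
    · rintro (rfl | ⟨hx, -⟩)
      · exact mem_orbit_self _
      · exact hx
  rw [hsplit, Set.ncard_insert_of_notMem (fun h => h.2 rfl) (Set.toFinite _), ← hX, hk, add_comm]

/-- the dichotomy for a subgroup containing a subgroup of order 25 of `Q` -/
theorem stab_or_dvd (hcard : Nat.card G = 126000) (hΩ : Fintype.card Ω = 126) (H R : Subgroup G) (hRH : R ≤ H)
    (hR : Nat.card R = 25) (ω : Ω) (hfix : ∀ r ∈ R, r • ω = ω)
    (hfree : ∀ r ∈ R, r ≠ 1 → ∀ x : Ω, r • x = x → x = ω) :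
    H ≤ stabilizer G ω ∨ 126 ∣ Nat.card H := by
  obtain ⟨k, hk⟩ := orbit_ncard_mod H R hRH ω hfix hfree
  rw [hR] at hk
  set m := (orbit H ω).ncard with hm
  have hle : m ≤ 126 := by
    rw [← hΩ, ← Nat.card_eq_fintype_card, ← Set.ncard_univ]
    exact Set.ncard_le_ncard (Set.subset_univ _) (Set.toFinite _)
  have hdvd1 : m ∣ Nat.card H := by
    have h1 := MulAction.index_stabilizer H ω
    rw [← hm] at h1
    rw [← h1]
    exact Subgroup.index_dvd_card _
  have hdvd2 : Nat.card H ∣ 126000 := by
    rw [← hcard]
    exact Subgroup.card_subgroup_dvd_card H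
  have hdvd : m ∣ 126000 := dvd_trans hdvd1 hdvd2
  have hk5 : k ≤ 5 := by omega
  have hm' : m = 1 ∨ m = 126 := by
    interval_cases k
    · left; omega
    · exfalso; rw [hk] at hdvd; revert hdvd; decide
    · exfalso; rw [hk] at hdvd; revert hdvd; decide
    · exfalso; rw [hk] at hdvd; revert hdvd; decide
    · exfalso; rw [hk] at hdvd; revert hdvd; decide
    · right; omega
  rcases hm' with h1 | h126
  · left
    intro h hh
    rw [mem_stabilizer_iff]
    have hsub : orbit H ω = {ω} := by
      have hone := Set.ncard_eq_one.1 (hm ▸ h1)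
      obtain ⟨a, ha⟩ := hone
      have : ω ∈ orbit H ω := mem_orbit_self _
      rw [ha, Set.mem_singleton_iff] at this
      rw [ha, this]
    have : (⟨h, hh⟩ : H) • ω ∈ orbit H ω := mem_orbit _ _
    rw [hsub, Set.mem_singleton_iff] at this
    exact this
  · right
    rw [← h126]
    exact hdvd1

end action

section sylow7

variable {G : Type*} [Group G] [Finite G]

/-- the number of the Sylow 7-subgroups of a subgroup containing `s` -/
theorem sylow7_count (s : G) (hs : orderOf s = 7)
    (hN : Nat.card (Subgroup.normalizer (Subgroup.zpowers s : Set G)) = 21)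
    (H : Subgroup G) (hsH : s ∈ H) (h49 : ¬ 49 ∣ Nat.card H) :
    (Nat.card H / 7) % 7 = 1 ∨ (21 ∣ Nat.card H ∧ (Nat.card H / 21) % 7 = 1) := by
  have : Fact (Nat.Prime 7) := ⟨by norm_num⟩
  set s' : H := ⟨s, hsH⟩ with hs'
  have hos' : orderOf s' = 7 := by rw [← hs]; exact Subgroup.orderOf_mk s hsH
  set T : Subgroup H := Subgroup.zpowers s' with hT
  have hTcard : Nat.card T = 7 := by rw [Nat.card_zpowers, hos']
  have hTp : IsPGroup 7 T := IsPGroup.of_card (n := 1) (by rw [hTcard, pow_one])
  obtain ⟨P7, hP7⟩ := hTp.exists_le_sylow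
  have hP7card : Nat.card P7 = 7 := by
    obtain ⟨k, hk⟩ := (IsPGroup.iff_card.1 P7.isPGroup')
    have hdvd : Nat.card P7 ∣ Nat.card H := Subgroup.card_subgroup_dvd_card (P7 : Subgroup H)
    have h7 : 7 ∣ Nat.card P7 := by
      have := Subgroup.card_dvd_of_le hP7
      rwa [hTcard] at this
    have hdvd' : 7 ^ k ∣ Nat.card H := hk ▸ hdvd
    have h7' : 7 ∣ 7 ^ k := hk ▸ h7
    have hk1 : k ≤ 1 := by
      by_contra hc
      push Not at hc
      apply h49
      exact dvd_trans (pow_dvd_pow 7 hc) hdvd'
    rw [hk]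
    interval_cases k
    · norm_num at h7'
    · norm_num
  have hTP : T = (P7 : Subgroup H) := Subgroup.eq_of_le_of_card_ge hP7 (by rw [hTcard, hP7card])
  have hmod := card_sylow_modEq_one 7 H
  have hidx := Sylow.card_eq_index_normalizer P7
  set N : Subgroup H := Subgroup.normalizer ((P7 : Subgroup H) : Set H) with hNdef
  have hmul : Nat.card N * N.index = Nat.card H := Subgroup.card_mul_index N
  have h7N : 7 ∣ Nat.card N := by
    rw [← hP7card]
    exact Subgroup.card_dvd_of_le Subgroup.le_normalizer
  have hN21 : Nat.card N ∣ 21 := by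
    rw [← hN, ← Subgroup.card_map_of_injective H.subtype_injective]
    apply Subgroup.card_dvd_of_le
    rintro _ ⟨h, hh, rfl⟩
    change (h : G) ∈ Subgroup.normalizer (Subgroup.zpowers s : Set G)
    rw [Subgroup.mem_normalizer_iff]
    intro g
    have hh' := Subgroup.mem_normalizer_iff.1 hh
    have hhi := Subgroup.mem_normalizer_iff.1 (N.inv_mem hh)
    constructor
    · intro hg
      obtain ⟨j, rfl⟩ := Subgroup.mem_zpowers_iff.1 hg
      have h1 : s' ^ j ∈ (P7 : Subgroup H) := by rw [← hTP]; exact Subgroup.zpow_mem_zpowers s' j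
      have h2 := (hh' (s' ^ j)).1 h1
      rw [← hTP] at h2
      obtain ⟨i, hi⟩ := Subgroup.mem_zpowers_iff.1 h2
      rw [Subgroup.mem_zpowers_iff]
      refine ⟨i, ?_⟩
      have := congrArg Subtype.val hi
      simpa using this
    · intro hg
      obtain ⟨j, hj⟩ := Subgroup.mem_zpowers_iff.1 hg
      have h1 : s' ^ j ∈ (P7 : Subgroup H) := by rw [← hTP]; exact Subgroup.zpow_mem_zpowers s' j
      have h2 := (hhi (s' ^ j)).1 h1
      rw [← hTP] at h2
      obtain ⟨i, hi⟩ := Subgroup.mem_zpowers_iff.1 h2
      rw [Subgroup.mem_zpowers_iff]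
      refine ⟨i, ?_⟩
      have h3 := congrArg Subtype.val hi
      have h4 : ((h : H) : G)⁻¹ * s ^ j * ((h : H) : G) = g := by
        rw [hj]; group
      rw [← h4]
      simpa using h3
  have hpos : 0 < Nat.card N := Nat.card_pos
  have hle : Nat.card N ≤ 21 := Nat.le_of_dvd (by norm_num) hN21
  rw [hidx] at hmod
  have hmod' : N.index % 7 = 1 := hmod
  set d := Nat.card N with hd
  have hd' : d = 7 ∨ d = 21 := by
    interval_cases d <;> first | omega | (exfalso; revert hN21; decide)
  rcases hd' with h | h
  · left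
    rw [h] at hmul
    have : N.index = Nat.card H / 7 := by omega
    rw [← this]; exact hmod'
  · right
    rw [h] at hmul
    refine ⟨⟨N.index, by omega⟩, ?_⟩
    have : N.index = Nat.card H / 21 := by omega
    rw [← this]; exact hmod'

end sylow7

section main

variable {G : Type*} [Group G] [Finite G] {Ω : Type*} [Fintype Ω] [MulAction G Ω]

/-- **Every proper subgroup has index at least 50.** -/
theorem index_ge_fifty (hsimple : IsSimpleGroup G) (hcard : Nat.card G = 126000) (hΩ : Fintype.card Ω = 126)
    [htrans : IsPretransitive G Ω]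
    (Q : Subgroup G) (hQ : Nat.card Q = 125) (ω₀ : Ω) (hQfix : ∀ g ∈ Q, g • ω₀ = ω₀)
    (hQfree : ∀ g ∈ Q, g ≠ 1 → ∀ x : Ω, g • x = x → x = ω₀)
    (s : G) (hs : orderOf s = 7)
    (hN : Nat.card (Subgroup.normalizer (Subgroup.zpowers s : Set G)) = 21) :
    ∀ H : Subgroup G, H ≠ ⊤ → 50 ≤ H.index := by
  intro H hH
  by_contra hlt
  push Not at hlt
  have h5 : Fact (Nat.Prime 5) := ⟨by norm_num⟩
  have h7 : Fact (Nat.Prime 7) := ⟨by norm_num⟩
  have hmul : Nat.card H * H.index = 126000 := by rw [← hcard]; exact H.card_mul_index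
  have hfac := card_dvd_factorial hsimple H hH
  rw [hcard] at hfac
  -- the stabiliser of a point has 1000 elements
  have hstab : Nat.card (stabilizer G ω₀) = 1000 := by
    have h1 := MulAction.index_stabilizer G ω₀
    rw [orbit_eq_univ, Set.ncard_univ, Nat.card_eq_fintype_card, hΩ] at h1
    have h2 := Subgroup.card_mul_index (stabilizer G ω₀)
    rw [h1, hcard] at h2
    omega
  -- the dichotomy for the subgroups whose order is divisible by 25
  have hB : 25 ∣ Nat.card H → Nat.card H ≤ 1000 ∨ 126 ∣ Nat.card H := by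
    intro h25
    obtain ⟨R0, hR0⟩ := Sylow.exists_subgroup_card_pow_prime (G := H) 5 (n := 2) (by norm_num; exact h25)
    set R1 : Subgroup G := R0.map H.subtype with hR1
    have hR1card : Nat.card R1 = 5 ^ 2 := by
      rw [hR1, Subgroup.card_map_of_injective H.subtype_injective, hR0]
    have hR1H : R1 ≤ H := by
      rintro _ ⟨r, -, rfl⟩
      exact r.2
    have hR1p : IsPGroup 5 R1 := IsPGroup.of_card hR1card
    obtain ⟨g, hg⟩ := exists_conj_into 5 3 (by rw [hcard]; norm_num) R1 Q hR1p (by rw [hQ]; norm_num)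
    have hRQ : conjSub g R1 ≤ Q := by
      rintro _ ⟨r, hr, rfl⟩
      have := hg r hr
      simpa using this
    have hcardR : Nat.card (conjSub g R1) = 25 := by rw [card_conjSub, hR1card]; norm_num
    rcases stab_or_dvd hcard hΩ (conjSub g H) (conjSub g R1) (conjSub_mono g hR1H) hcardR ω₀
      (fun r hr => hQfix r (hRQ hr)) (fun r hr => hQfree r (hRQ hr)) with h | h
    · left
      have := Subgroup.card_le_of_le h
      rw [card_conjSub, hstab] at this
      exact this
    · right
      rw [card_conjSub] at h
      exact h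
  -- the count of the Sylow 7-subgroups
  have hC : 7 ∣ Nat.card H → ¬ 49 ∣ Nat.card H →
      (Nat.card H / 7) % 7 = 1 ∨ (21 ∣ Nat.card H ∧ (Nat.card H / 21) % 7 = 1) := by
    intro h7H h49
    obtain ⟨t', ht'⟩ := exists_prime_orderOf_dvd_card' (G := H) 7 h7H
    set t : G := t'.1 with ht
    have hot : orderOf t = 7 := by rw [← ht']; exact Subgroup.orderOf_coe t'
    have hA : IsPGroup 7 (Subgroup.zpowers t) :=
      IsPGroup.of_card (n := 1) (by rw [Nat.card_zpowers, hot, pow_one])
    obtain ⟨g, hg⟩ := exists_conj_into 7 1 (by rw [hcard]; norm_num) (Subgroup.zpowers t) (Subgroup.zpowers s) hA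
      (by rw [Nat.card_zpowers, hs, pow_one])
    set c : G := g * t * g⁻¹ with hc
    have hcs : c ∈ Subgroup.zpowers s := hg t (Subgroup.mem_zpowers t)
    have hoc : orderOf c = 7 := by
      rw [hc, ← hot]
      have := orderOf_injective (MulAut.conj g).toMonoidHom (MulAut.conj g).injective t
      simpa using this
    have hzz : Subgroup.zpowers c = Subgroup.zpowers s := by
      apply Subgroup.eq_of_le_of_card_ge
      · rw [Subgroup.zpowers_le]; exact hcs
      · rw [Nat.card_zpowers, Nat.card_zpowers, hoc, hs]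
    have hsc : s ∈ Subgroup.zpowers c := by rw [hzz]; exact Subgroup.mem_zpowers s
    have hsH' : s ∈ conjSub g H := by
      obtain ⟨j, hj⟩ := Subgroup.mem_zpowers_iff.1 hsc
      rw [← hj, hc, conj_zpow]
      exact mem_conjSub (H.zpow_mem t'.2 j)
    have := sylow7_count s hs hN (conjSub g H) hsH' (by rw [card_conjSub]; exact h49)
    rw [card_conjSub] at this
    exact this
  -- the index is at least 11
  have h11 : 11 ≤ H.index := by
    by_contra hc
    push Not at hc
    have h1 : (H.index).factorial ∣ (10).factorial := Nat.factorial_dvd_factorial (by omega)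
    have h2 := dvd_trans hfac h1
    revert h2
    decide
  -- the cases
  set n := H.index with hn
  set c := Nat.card H with hcdef
  interval_cases n <;>
    first
    | omega
    | (have hc : c = 126000 / n := by omega
       norm_num at hc
       rw [hc] at hB hC
       norm_num at hB hC)

end main

end Cfsg.Agent.Lib.Lead.U35Min
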