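import Cfsg.Agent.Lib.Lead.U35Min.Data
import Cfsg.Agent.Lib.Helper6.U35TTC

/-!
# The unitary group `U3(5)` on 126 points: the kernel checks
-/

set_option autoImplicit false
set_option maxRecDepth 100000

namespace Cfsg.Agent.Lib.Lead.U35Min

open Cfsg.Agent.PL Cfsg.Spor Cfsg.Agent.Lib.Helper6 Cfsg.Agent.Lib.Helper6.TC Cfsg.Agent.Lib.Helper6.U35Sub
open Cfsg.Agent.PG (allB)

/-- the code of the generator `x` -/
def cg : ℕ → ℕ
  | 0 => c0
  | 1 => c1
  | 2 => c2
  | 3 => c3
  | _ => c4

theorem chk_code0 : codeOK 126 c0 c0 = true := by decide +kernel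
theorem chk_code1 : codeOK 126 c1 c1 = true := by decide +kernel
theorem chk_code2 : codeOK 126 c2 c2 = true := by decide +kernel
theorem chk_code3 : codeOK 126 c3 c3 = true := by decide +kernel
theorem chk_code4 : codeOK 126 c4 c4 = true := by decide +kernel

theorem chk_sq0 : pmul 126 c0 c0 = pone 126 := by decide +kernel
theorem chk_sq1 : pmul 126 c1 c1 = pone 126 := by decide +kernel
theorem chk_sq2 : pmul 126 c2 c2 = pone 126 := by decide +kernel
theorem chk_sq3 : pmul 126 c3 c3 = pone 126 := by decide +kernel
theorem chk_sq4 : pmul 126 c4 c4 = pone 126 := by decide +kernel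

/-- all the codes of elements of the group that are used -/
def codesAll : List ℕ := cgs ++ [cs, cy, cu, cv, cz]

theorem chk_gens : ((LA :: LsA).all fun L => L.2.1.all fun c => codesAll.contains c) = true := by decide +kernel

/-- the words of the relators fix all the points -/
theorem chk_words : ((coxWordsL T5.edges U35TTC.gen 5 ++ U35TTC.extraWords).all fun w =>
    allB 126 fun q => Nat.beq (w.foldr (fun x q => lk (cg x) q) q) q) = true := by decide +kernel

theorem chk_run : runK 126 prog cgs (fun r => idxOut.map fun i => r.getD i (pone 126)) = [cs, cy, cu, cv, cz] := by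
  decide +kernel

theorem chk_tree : treeOK 126 [] (LA :: LsA) = true := by decide +kernel

theorem chk_counts : treeCounts 126 fuel (LA :: LsA) = [126, 125, 8] := by decide +kernel

theorem chk_cyc : baseCycle cs (LA :: LsA) = true := by decide +kernel

theorem chk_trans : (allB 126 fun t => traceTo LA.2.1 LA.2.2 LA.1 fuel t) = true := by decide +kernel

theorem chk_conj1 : (conjList 126 fuel cs cs tests (LA :: LsA)).length = 7 := by decide +kernel
theorem chk_conj2 : (conjList 126 fuel cs cs2 tests (LA :: LsA)).length = 7 := by decide +kernel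
theorem chk_conj3 : (conjList 126 fuel cs cs3 tests (LA :: LsA)).length = 0 := by decide +kernel
theorem chk_conj4 : (conjList 126 fuel cs cs4 tests (LA :: LsA)).length = 7 := by decide +kernel
theorem chk_conj5 : (conjList 126 fuel cs cs5 tests (LA :: LsA)).length = 0 := by decide +kernel
theorem chk_conj6 : (conjList 126 fuel cs cs6 tests (LA :: LsA)).length = 0 := by decide +kernel

theorem chk_pow2 : pmul 126 cs cs = cs2 := by decide +kernel
theorem chk_pow3 : pmul 126 cs2 cs = cs3 := by decide +kernel
theorem chk_pow4 : pmul 126 cs3 cs = cs4 := by decide +kernel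
theorem chk_pow5 : pmul 126 cs4 cs = cs5 := by decide +kernel
theorem chk_pow6 : pmul 126 cs5 cs = cs6 := by decide +kernel
theorem chk_pow7 : pmul 126 cs6 cs = pone 126 := by decide +kernel
theorem chk_s_ne : Nat.beq (lk cs 0) 0 = false := by decide +kernel

theorem chk_ys : pmul 126 cy cs = pmul 126 cs4 cy := by decide +kernel
theorem chk_y3 : pmul 126 (pmul 126 cy cy) cy = pone 126 := by decide +kernel
theorem chk_y_ne : Nat.beq (lk cy 0) 0 = false := by decide +kernel
theorem chk_g0_ne : Nat.beq (lk c0 0) 0 = false := by decide +kernel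

theorem chk_ui : pinv 126 cu = cui := by decide +kernel
theorem chk_vi : pinv 126 cv = cvi := by decide +kernel

theorem chk_D_len : D.length = 125 := by decide +kernel
theorem chk_D_one : D.contains (pone 126) = true := by decide +kernel
theorem chk_D_closed : (D.all fun d => D.contains (pmul 126 cu d) && (D.contains (pmul 126 cv d) &&
    (D.contains (pmul 126 cui d) && D.contains (pmul 126 cvi d)))) = true := by decide +kernel
theorem chk_D_fix : (D.all fun d => Nat.beq (lk d 0) 0) = true := by decide +kernel
theorem chk_D_free : (D.all fun d => Nat.beq d (pone 126) ||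
    allB 126 fun q => Nat.beq q 0 || !Nat.beq (lk d q) q) = true := by decide +kernel

/-- the level of the Sylow subgroup -/
def LQ : Level := (29, [cu, cv], LsA.head!.2.2)

theorem chk_Qtree : treeOK 126 [] [LQ] = true := by decide +kernel
theorem chk_Qcount : treeCounts 126 fuel [LQ] = [125] := by decide +kernel

end Cfsg.Agent.Lib.Lead.U35Min
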