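import Cfsg.Agent.Lib.Lead.U35Min.Abstract
import Cfsg.Agent.Lib.Lead.U35Min.Chk
import Cfsg.Agent.Lib.Helper6.U35Simple
import Cfsg.Agent.Lib.Helper6.CoxLift
import Cfsg.Agent.Lib.Helper6.T3Gen

/-!
# The unitary group `U3(5)` on 126 points

The presented group `T5` acts faithfully on 126 points.  In the permutation group `P` of this action: a Sylow
5-subgroup `Q` fixes exactly one point and acts freely on the others, and the normaliser of the group generated by an
element `s` of order seven has 21 elements.  So every proper subgroup of `P` has index at least 50.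
-/

set_option autoImplicit false
set_option linter.constructorNameAsVariable false

namespace Cfsg.Agent.Lib.Lead.U35Min

open Cfsg.Agent.PL Cfsg.Spor Cfsg.Agent.Lib.Helper6 Cfsg.Agent.Lib.Helper6.TC Cfsg.Agent.Lib.Helper6.U35Sub
open Cfsg.Agent.PG (allB allB_iff fixer fixer_nil runM)

theorem hn : (126 : ℕ) ≤ 4096 := by norm_num

theorem chk_code : ∀ x, codeOK 126 (cg x) (cg x) = true
  | 0 => chk_code0
  | 1 => chk_code1
  | 2 => chk_code2
  | 3 => chk_code3
  | _ + 4 => chk_code4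

theorem chk_sq : ∀ x, pmul 126 (cg x) (cg x) = pone 126
  | 0 => chk_sq0
  | 1 => chk_sq1
  | 2 => chk_sq2
  | 3 => chk_sq3
  | _ + 4 => chk_sq4

/-- the permutation of the generator `x` -/
noncomputable def gp (x : ℕ) : Equiv.Perm (Fin 126) := dec 126 (cg x)

theorem enc_gp (x : ℕ) : enc 126 (gp x) = cg x := enc_dec (isCode_of_codeOK hn (chk_code x))

theorem acts_gp (x : ℕ) : Acts (gp x) (lk (cg x)) := Acts.of_enc hn (enc_gp x)

theorem enc_mul {g h : Equiv.Perm (Fin 126)} {c d e : ℕ} (hg : enc 126 g = c) (hh : enc 126 h = d)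
    (he : pmul 126 c d = e) : enc 126 (g * h) = e := by
  rw [← pmul_enc hn, hg, hh, he]

theorem gp_mul_self (x : ℕ) : gp x * gp x = 1 := by
  apply enc_injective hn
  rw [enc_mul (enc_gp x) (enc_gp x) (chk_sq x), pone_eq]

/-- the images of the generators of the presentation -/
noncomputable def fgen (a : T5.Gen) : Equiv.Perm (Fin 126) := gp (U35TTC.code a)

theorem fgen_gen : ∀ x : ℕ, fgen (U35TTC.gen x) = gp x
  | 0 => rfl
  | 1 => rfl
  | 2 => rfl
  | 3 => rfl
  | _ + 4 => rfl

theorem acts_word (w : List ℕ) :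
    Acts ((w.map fun x => fgen (U35TTC.gen x)).prod) (fun q => w.foldr (fun x q => lk (cg x) q) q) := by
  induction w with
  | nil => exact Acts.one
  | cons x w ih =>
    rw [List.map_cons, List.prod_cons, fgen_gen]
    exact (acts_gp x).mul ih

theorem word_eq_one {w : List ℕ} (hw : w ∈ coxWordsL T5.edges U35TTC.gen 5 ++ U35TTC.extraWords) :
    (w.map fun x => fgen (U35TTC.gen x)).prod = 1 := by
  have h1 := List.all_eq_true.1 chk_words w hw
  exact (acts_word w).eq_one fun q hq => Nat.eq_of_beq_eq_true (allB_iff.1 h1 q hq)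

theorem fgen_mul_self (a : T5.Gen) : fgen a * fgen a = 1 := gp_mul_self _

theorem lift_rel : ∀ r ∈ coxRelators T5.edges ∪ {r | r ∈ T5.extra}, FreeGroup.lift fgen r = 1 :=
  CoxLift.lift_eq_one_of_words U35TTC.gen U35TTC.code 5 U35TTC.extraWords
    (by intro a; cases a <;> exact ⟨by decide, rfl⟩) fgen
    (U35TTC.extra_iff fgen fgen_mul_self) fun _ hw => word_eq_one hw

/-- the action of the presented group on the 126 points -/
noncomputable def ρ : T5 →* Equiv.Perm (Fin 126) := PresentedGroup.toGroup lift_rel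

theorem ρ_of (a : T5.Gen) : ρ (PresentedGroup.of a) = fgen a := PresentedGroup.toGroup.of _

theorem ne_of_beq_false {a b : ℕ} (h : Nat.beq a b = false) : a ≠ b := by
  intro e
  rw [e, Nat.beq_refl] at h
  exact absurd h (by simp)

theorem ρ_ne_one : ρ (PresentedGroup.of T5.Gen.a) ≠ 1 := by
  rw [ρ_of]
  exact (acts_gp 0).ne_one (q := 0) (by norm_num) (ne_of_beq_false chk_g0_ne)

theorem ρ_inj : Function.Injective ρ := by
  have : IsSimpleGroup T5 := U35Simple.main.1
  exact T3Gen.injective_of_simple _ ρ_ne_one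

/-- the permutation group on the 126 points -/
noncomputable def P : Subgroup (Equiv.Perm (Fin 126)) := ρ.range

/-- the presented group is isomorphic to the permutation group -/
noncomputable def isoP : T5 ≃* ↥P := MonoidHom.ofInjective ρ_inj

theorem card_P : Nat.card ↥P = 126000 := by
  rw [← U35Simple.main.2]
  exact (Nat.card_congr isoP.toEquiv).symm

theorem simple_P : IsSimpleGroup ↥P := by
  have : IsSimpleGroup T5 := U35Simple.main.1
  exact isoP.symm.isSimpleGroup

/-- the generators, in the permutation group -/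
noncomputable def gP (x : ℕ) : ↥P :=
  ⟨gp x, MonoidHom.mem_range.2 ⟨PresentedGroup.of (U35TTC.gen x), by rw [ρ_of, fgen_gen]⟩⟩

/-- the registers of the generators -/
noncomputable def regs : List ↥P := [gP 0, gP 1, gP 2, gP 3, gP 4]

theorem regs_ok : RegsOK P regs cgs :=
  List.Forall₂.cons (enc_gp 0) (List.Forall₂.cons (enc_gp 1) (List.Forall₂.cons (enc_gp 2)
    (List.Forall₂.cons (enc_gp 3) (List.Forall₂.cons (enc_gp 4) List.Forall₂.nil))))

/-- an output of the straight line program -/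
noncomputable def out (i : ℕ) : ↥P := (runM prog regs).getD i 1

theorem enc_out (i : ℕ) : enc 126 (out i).1 = (run 126 prog cgs).getD i (pone 126) :=
  (regs_ok.run hn).getD i

theorem outs : (run 126 prog cgs).getD 27 (pone 126) = cs ∧ (run 126 prog cgs).getD 22 (pone 126) = cy ∧
    (run 126 prog cgs).getD 19 (pone 126) = cu ∧ (run 126 prog cgs).getD 11 (pone 126) = cv ∧
    (run 126 prog cgs).getD 0 (pone 126) = cz := by
  have h := chk_run
  rw [runK_eq] at h
  simp only [idxOut, List.map_cons, List.map_nil, List.cons.injEq, and_true] at h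
  exact h

/-- the element `s` of order seven -/
noncomputable def sP : ↥P := out 27
/-- the element `y` of order three -/
noncomputable def yP : ↥P := out 22
/-- the element `u` of order five -/
noncomputable def uP : ↥P := out 19
/-- the element `v` of order five -/
noncomputable def vP : ↥P := out 11

theorem enc_s : enc 126 sP.1 = cs := (enc_out 27).trans outs.1
theorem enc_y : enc 126 yP.1 = cy := (enc_out 22).trans outs.2.1
theorem enc_u : enc 126 uP.1 = cu := (enc_out 19).trans outs.2.2.1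
theorem enc_v : enc 126 vP.1 = cv := (enc_out 11).trans outs.2.2.2.1

theorem hcodes : ∀ c ∈ codesAll, ∃ g ∈ P, enc 126 g = c := by
  intro c hc
  rw [codesAll, List.mem_append] at hc
  rcases hc with hc | hc
  · simp only [cgs, List.mem_cons, List.not_mem_nil, or_false] at hc
    rcases hc with rfl | rfl | rfl | rfl | rfl
    · exact ⟨gp 0, (gP 0).2, enc_gp 0⟩
    · exact ⟨gp 1, (gP 1).2, enc_gp 1⟩
    · exact ⟨gp 2, (gP 2).2, enc_gp 2⟩
    · exact ⟨gp 3, (gP 3).2, enc_gp 3⟩
    · exact ⟨gp 4, (gP 4).2, enc_gp 4⟩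
  · exact exists_of_run hn regs_ok prog idxOut _ chk_run c hc

theorem hcA : ∀ L ∈ LA :: LsA, ∀ c ∈ L.2.1, ∃ g ∈ P, enc 126 g = c := by
  intro L hL c hc
  have h1 := List.all_eq_true.1 (List.all_eq_true.1 chk_gens L hL) c hc
  exact hcodes c (List.contains_iff_mem.1 h1)

theorem card_le_counts : Nat.card ↥P ≤ (treeCounts 126 fuel (LA :: LsA)).prod := by
  rw [chk_counts, card_P]
  decide

/-! ### transitivity -/

theorem exists_to_zero (t : Fin 126) : ∃ g : ↥P, g • t = (0 : Fin 126) := by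
  have ht := allB_iff.1 chk_trans t.1 t.2
  obtain ⟨g, hg, hg1, hg2⟩ := trace_sound hn P LA.2.1 (hcA LA List.mem_cons_self) LA.2.2 LA.1 fuel t.1 t.2 ht
  refine ⟨⟨g, hg⟩, Fin.ext ?_⟩
  show ((g t : Fin 126) : ℕ) = 0
  have := hg1 t.1 t.2
  rw [hg2] at this
  exact this

instance transP : MulAction.IsPretransitive ↥P (Fin 126) := by
  constructor
  intro x y
  obtain ⟨g, hg⟩ := exists_to_zero x
  obtain ⟨k, hk⟩ := exists_to_zero y
  exact ⟨k⁻¹ * g, by rw [mul_smul, hg, ← hk, inv_smul_smul]⟩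

/-! ### the Sylow 5-subgroup -/

/-- the Sylow 5-subgroup, as a group of permutations -/
noncomputable def Q' : Subgroup (Equiv.Perm (Fin 126)) := Subgroup.closure {uP.1, vP.1}

theorem Q'_le : Q' ≤ P := by
  rw [Q', Subgroup.closure_le]
  rintro g (rfl | rfl)
  · exact uP.2
  · exact vP.2

theorem enc_ui : enc 126 uP.1⁻¹ = cui := by rw [← pinv_enc hn, enc_u, chk_ui]
theorem enc_vi : enc 126 vP.1⁻¹ = cvi := by rw [← pinv_enc hn, enc_v, chk_vi]

theorem D_closed {d : ℕ} (hd : d ∈ D) : pmul 126 cu d ∈ D ∧ pmul 126 cv d ∈ D ∧ pmul 126 cui d ∈ D ∧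
    pmul 126 cvi d ∈ D := by
  have h := List.all_eq_true.1 chk_D_closed d hd
  simp only [Bool.and_eq_true] at h
  exact ⟨List.contains_iff_mem.1 h.1, List.contains_iff_mem.1 h.2.1, List.contains_iff_mem.1 h.2.2.1,
    List.contains_iff_mem.1 h.2.2.2⟩

theorem enc_mem_D : ∀ g ∈ Q', enc 126 g ∈ D := by
  intro g hg
  rw [Q'] at hg
  induction hg using Subgroup.closure_induction_left with
  | one =>
    rw [← pone_eq]
    exact List.contains_iff_mem.1 chk_D_one
  | mul_left x hx y _ ih =>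
    rcases hx with rfl | rfl
    · rw [enc_mul enc_u rfl rfl]
      exact (D_closed ih).1
    · rw [enc_mul enc_v rfl rfl]
      exact (D_closed ih).2.1
  | inv_mul_cancel x hx y _ ih =>
    rcases hx with rfl | rfl
    · rw [enc_mul enc_ui rfl rfl]
      exact (D_closed ih).2.2.1
    · rw [enc_mul enc_vi rfl rfl]
      exact (D_closed ih).2.2.2

theorem card_Q'_le : Nat.card ↥Q' ≤ 125 := by
  have h1 : (Q' : Set (Equiv.Perm (Fin 126))).ncard ≤ ((D.toFinset : Finset ℕ) : Set ℕ).ncard :=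
    Set.ncard_le_ncard_of_injOn (enc 126) (fun g hg => by
      rw [Finset.mem_coe, List.mem_toFinset]
      exact enc_mem_D g hg) (fun g _ h _ e => enc_injective hn e) (Finset.finite_toSet _)
  rw [Set.ncard_coe_finset] at h1
  have h2 := List.toFinset_card_le D
  rw [chk_D_len] at h2
  exact le_trans h1 h2

theorem card_Q'_ge : 125 ≤ Nat.card ↥Q' := by
  have hc : ∀ L ∈ [LQ], ∀ c ∈ L.2.1, ∃ g ∈ Q', enc 126 g = c := by
    intro L hL c hc
    rw [List.mem_singleton] at hL
    subst hL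
    simp only [LQ, List.mem_cons, List.not_mem_nil, or_false] at hc
    rcases hc with rfl | rfl
    · exact ⟨uP.1, Subgroup.subset_closure (by simp), enc_u⟩
    · exact ⟨vP.1, Subgroup.subset_closure (by simp), enc_v⟩
  have := tree_sound hn Q' fuel [LQ] [] chk_Qtree hc
  rw [fixer_nil, chk_Qcount] at this
  exact this

/-- the Sylow 5-subgroup -/
noncomputable def Q : Subgroup ↥P := Q'.subgroupOf P

theorem card_Q : Nat.card ↥Q = 125 := by
  rw [Q, Nat.card_congr (Subgroup.subgroupOfEquivOfLe Q'_le).toEquiv]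
  exact le_antisymm card_Q'_le card_Q'_ge

theorem Q_fix : ∀ g ∈ Q, g • (0 : Fin 126) = 0 := by
  intro g hg
  have hd := enc_mem_D g.1 (Subgroup.mem_subgroupOf.1 hg)
  have h := Nat.eq_of_beq_eq_true (List.all_eq_true.1 chk_D_fix _ hd)
  apply Fin.ext
  show ((g.1 (0 : Fin 126) : Fin 126) : ℕ) = 0
  rw [← lk_enc_fin hn g.1 0]
  exact h

theorem Q_free : ∀ g ∈ Q, g ≠ 1 → ∀ x : Fin 126, g • x = x → x = 0 := by
  intro g hg hg1 x hx
  have hd := enc_mem_D g.1 (Subgroup.mem_subgroupOf.1 hg)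
  have h := List.all_eq_true.1 chk_D_free _ hd
  rw [Bool.or_eq_true] at h
  rcases h with h | h
  · exfalso
    apply hg1
    apply Subtype.ext
    apply enc_injective hn
    rw [Nat.eq_of_beq_eq_true h, pone_eq]
    rfl
  · have h2 := allB_iff.1 h x.1 x.2
    rw [Bool.or_eq_true] at h2
    rcases h2 with h2 | h2
    · exact Fin.ext (Nat.eq_of_beq_eq_true h2)
    · exfalso
      have h3 : ((g.1 x : Fin 126) : ℕ) = x.1 := congrArg Fin.val hx
      rw [← lk_enc_fin hn g.1 x] at h3
      rw [h3, Nat.beq_refl] at h2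
      exact absurd h2 (by simp)

/-! ### the element of order seven -/

theorem enc_s2 : enc 126 (sP.1 ^ 2) = cs2 := by rw [pow_succ, pow_one]; exact enc_mul enc_s enc_s chk_pow2
theorem enc_s3 : enc 126 (sP.1 ^ 3) = cs3 := by rw [pow_succ]; exact enc_mul enc_s2 enc_s chk_pow3
theorem enc_s4 : enc 126 (sP.1 ^ 4) = cs4 := by rw [pow_succ]; exact enc_mul enc_s3 enc_s chk_pow4
theorem enc_s5 : enc 126 (sP.1 ^ 5) = cs5 := by rw [pow_succ]; exact enc_mul enc_s4 enc_s chk_pow5
theorem enc_s6 : enc 126 (sP.1 ^ 6) = cs6 := by rw [pow_succ]; exact enc_mul enc_s5 enc_s chk_pow6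

theorem s_pow_seven : sP.1 ^ 7 = 1 := by
  apply enc_injective hn
  rw [pow_succ, enc_mul enc_s6 enc_s chk_pow7, pone_eq]

theorem s_ne_one : sP.1 ≠ 1 :=
  (Acts.of_enc hn enc_s).ne_one (q := 0) (by norm_num) (ne_of_beq_false chk_s_ne)

theorem orderOf_s' : orderOf sP.1 = 7 := by
  have : Fact (Nat.Prime 7) := ⟨by norm_num⟩
  exact orderOf_eq_prime s_pow_seven s_ne_one

theorem orderOf_s : orderOf sP = 7 := by
  rw [← orderOf_s']
  exact (Subgroup.orderOf_coe sP).symm

/-- the elements of `P` that conjugate `s` to its power `k` -/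
def A (k : ℕ) : Set (Equiv.Perm (Fin 126)) := {c | c ∈ P ∧ c * sP.1 = sP.1 ^ k * c}

theorem ncard_A_le (k : ℕ) : (A k).ncard ≤ (conjList 126 fuel cs (enc 126 (sP.1 ^ k)) tests (LA :: LsA)).length := by
  have := ncard_conj_le hn P fuel sP.1 (sP.1 ^ k) tests (LA :: LsA) (List.cons_ne_nil _ _) chk_tree hcA
    card_le_counts (by rw [enc_s]; exact chk_cyc)
  rw [enc_s] at this
  exact this

theorem ncard_A1 : (A 1).ncard ≤ 7 := by
  have := ncard_A_le 1
  rw [pow_one, enc_s, chk_conj1] at this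
  exact this
theorem ncard_A2 : (A 2).ncard ≤ 7 := by
  have := ncard_A_le 2
  rw [enc_s2, chk_conj2] at this
  exact this
theorem ncard_A3 : (A 3).ncard ≤ 0 := by
  have := ncard_A_le 3
  rw [enc_s3, chk_conj3] at this
  exact this
theorem ncard_A4 : (A 4).ncard ≤ 7 := by
  have := ncard_A_le 4
  rw [enc_s4, chk_conj4] at this
  exact this
theorem ncard_A5 : (A 5).ncard ≤ 0 := by
  have := ncard_A_le 5
  rw [enc_s5, chk_conj5] at this
  exact this
theorem ncard_A6 : (A 6).ncard ≤ 0 := by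
  have := ncard_A_le 6
  rw [enc_s6, chk_conj6] at this
  exact this

/-- the normaliser of the group generated by `s` -/
noncomputable def N : Subgroup ↥P := Subgroup.normalizer (Subgroup.zpowers sP : Set ↥P)

theorem N_sub (c : ↥P) (hc : c ∈ N) : c.1 ∈ A 1 ∪ A 2 ∪ A 3 ∪ A 4 ∪ A 5 ∪ A 6 := by
  classical
  have h1 : c * sP * c⁻¹ ∈ Subgroup.zpowers sP :=
    (Subgroup.mem_normalizer_iff.1 hc sP).1 (Subgroup.mem_zpowers sP)
  rw [mem_zpowers_iff_mem_range_orderOf, orderOf_s, Finset.mem_image] at h1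
  obtain ⟨k, hk, hk2⟩ := h1
  rw [Finset.mem_range] at hk
  have hk3 : c * sP = sP ^ k * c := by
    rw [hk2, inv_mul_cancel_right]
  have hk4 : c.1 * sP.1 = sP.1 ^ k * c.1 := by
    have := congrArg Subtype.val hk3
    rw [Subgroup.coe_mul, Subgroup.coe_mul, Subgroup.coe_pow] at this
    exact this
  have hmem : c.1 ∈ A k := ⟨c.2, hk4⟩
  interval_cases k
  · exfalso
    rw [pow_zero, one_mul] at hk4
    exact s_ne_one (mul_left_cancel (hk4.trans (mul_one c.1).symm))
  · simp only [Set.mem_union]; tauto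
  · simp only [Set.mem_union]; tauto
  · simp only [Set.mem_union]; tauto
  · simp only [Set.mem_union]; tauto
  · simp only [Set.mem_union]; tauto
  · simp only [Set.mem_union]; tauto

theorem card_N_le : Nat.card ↥N ≤ 21 := by
  have h1 : Nat.card ↥N ≤ Nat.card ↥(A 1 ∪ A 2 ∪ A 3 ∪ A 4 ∪ A 5 ∪ A 6) := by
    apply Nat.card_le_card_of_injective (fun c : ↥N => (⟨c.1.1, N_sub c.1 c.2⟩ : ↥(A 1 ∪ A 2 ∪ A 3 ∪ A 4 ∪ A 5 ∪ A 6)))
    intro c d h
    have h' : c.1.1 = d.1.1 := Subtype.mk.inj h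
    exact Subtype.ext (Subtype.ext h')
  rw [Nat.card_coe_set_eq] at h1
  have h2 := Set.ncard_union_le (A 1 ∪ A 2 ∪ A 3 ∪ A 4 ∪ A 5) (A 6)
  have h3 := Set.ncard_union_le (A 1 ∪ A 2 ∪ A 3 ∪ A 4) (A 5)
  have h4 := Set.ncard_union_le (A 1 ∪ A 2 ∪ A 3) (A 4)
  have h5 := Set.ncard_union_le (A 1 ∪ A 2) (A 3)
  have h6 := Set.ncard_union_le (A 1) (A 2)
  have := ncard_A1
  have := ncard_A2
  have := ncard_A3
  have := ncard_A4
  have := ncard_A5
  have := ncard_A6
  omega

theorem ys : yP * sP = sP ^ 4 * yP := by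
  apply Subtype.ext
  rw [Subgroup.coe_mul, Subgroup.coe_mul, Subgroup.coe_pow]
  apply enc_injective hn
  rw [enc_mul enc_y enc_s rfl, enc_mul enc_s4 enc_y rfl]
  exact chk_ys

theorem y_pow_three : yP.1 ^ 3 = 1 := by
  apply enc_injective hn
  rw [pow_succ, pow_succ, pow_one, enc_mul (enc_mul enc_y enc_y rfl) enc_y rfl, chk_y3, pone_eq]

theorem y_ne_one : yP.1 ≠ 1 :=
  (Acts.of_enc hn enc_y).ne_one (q := 0) (by norm_num) (ne_of_beq_false chk_y_ne)

theorem orderOf_y : orderOf yP = 3 := by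
  have : Fact (Nat.Prime 3) := ⟨by norm_num⟩
  rw [← Subgroup.orderOf_coe]
  exact orderOf_eq_prime y_pow_three y_ne_one

theorem s_mem_N : sP ∈ N := Subgroup.le_normalizer (Subgroup.mem_zpowers sP)

theorem y_mem_N : yP ∈ N := by
  apply Subgroup.mem_normalizer_fintype
  intro g hg
  obtain ⟨j, rfl⟩ := Subgroup.mem_zpowers_iff.1 hg
  rw [← conj_zpow]
  have : yP * sP * yP⁻¹ = sP ^ 4 := by rw [ys, mul_inv_cancel_right]
  rw [this]
  exact Subgroup.zpow_mem _ (Subgroup.pow_mem _ (Subgroup.mem_zpowers sP) 4) j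

theorem card_N : Nat.card ↥N = 21 := by
  have h7 : 7 ∣ Nat.card ↥N := by
    have := orderOf_dvd_natCard (⟨sP, s_mem_N⟩ : ↥N)
    rwa [← Subgroup.orderOf_coe, orderOf_s] at this
  have h3 : 3 ∣ Nat.card ↥N := by
    have := orderOf_dvd_natCard (⟨yP, y_mem_N⟩ : ↥N)
    rwa [← Subgroup.orderOf_coe, orderOf_y] at this
  have h21 : 21 ∣ Nat.card ↥N := Nat.Coprime.mul_dvd_of_dvd_of_dvd (by norm_num : Nat.Coprime 3 7) h3 h7
  exact le_antisymm card_N_le (Nat.le_of_dvd Nat.card_pos h21)

/-- **Every proper subgroup of the permutation group has index at least 50.** -/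
theorem index_ge (H : Subgroup ↥P) (hH : H ≠ ⊤) : 50 ≤ H.index :=
  index_ge_fifty simple_P card_P (by simp) Q card_Q 0 Q_fix Q_free sP orderOf_s card_N H hH

end Cfsg.Agent.Lib.Lead.U35Min
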